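import Mathlib
import Cfsg.Agent.S2530
import Cfsg.Agent.Lib.Helper35.Alt.Cover
import Cfsg.Agent.Lib.Helper35.SLLift
import Cfsg.Agent.Lib.Helper35.AltM.Bourbaki

set_option autoImplicit false

/-! # Splitting criterion for central extensions of alternating groups -/

namespace Cfsg.Agent.Lib.Helper35.AltM

open Equiv
open scoped commutatorElement
open Cfsg.Agent.Lib.Helper35.AltCover

variable {m : ℕ}

/-- the adjacent transpositions, indexed by `ℕ` -/
def t (m : ℕ) (k : ℕ) : Perm (Fin (m + 1)) := if h : k < m then sw m ⟨k, h⟩ else 1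

theorem t_of_lt {k : ℕ} (h : k < m) : t m k = sw m ⟨k, h⟩ := by simp [t, h]

theorem t_sq (k : ℕ) : t m k * t m k = 1 := by
  unfold t
  split_ifs with h
  · exact Equiv.swap_mul_self _ _
  · simp

theorem t_inv (k : ℕ) : (t m k)⁻¹ = t m k := inv_eq_of_mul_eq_one_right (t_sq k)

theorem A_val (i j : Fin m) : CoxeterMatrix.A m i j =
    if i = j then 1 else if (j : ℕ) + 1 = i ∨ (i : ℕ) + 1 = j then 3 else 2 := rfl

theorem A_far {i j : Fin m} (h : i.val + 2 ≤ j.val) : CoxeterMatrix.A m i j = 2 := by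
  rw [A_val, if_neg (by intro h'; rw [h'] at h; omega), if_neg (by omega)]

theorem A_adj {i j : Fin m} (h : i.val + 1 = j.val) : CoxeterMatrix.A m i j = 3 := by
  rw [A_val, if_neg (by intro h'; rw [h'] at h; omega), if_pos (Or.inr h)]

theorem t_rel {k l : ℕ} (hk : k < m) (hl : l < m) :
    (t m k * t m l) ^ CoxeterMatrix.A m ⟨k, hk⟩ ⟨l, hl⟩ = 1 := by
  obtain ⟨cs, hcs⟩ := Cfsg.Agent.S2530.result m
  have := cs.simple_mul_simple_pow ⟨k, hk⟩ ⟨l, hl⟩
  rw [hcs, hcs] at this
  rw [t_of_lt hk, t_of_lt hl]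
  exact this

theorem t_comm {k l : ℕ} (h : k + 2 ≤ l) : Commute (t m k) (t m l) := by
  by_cases hl : l < m
  · have hk : k < m := by omega
    have h1 := t_rel hk hl
    rw [A_far (by simpa using h), pow_two] at h1
    have h2 : t m k * t m l = (t m l)⁻¹ * (t m k)⁻¹ := by
      rw [← mul_inv_rev]
      exact eq_inv_of_mul_eq_one_left h1
    rw [t_inv, t_inv] at h2
    exact h2
  · have : t m l = 1 := by simp [t, hl]
    rw [this]
    exact Commute.one_right _

theorem t_comm' {k l : ℕ} (h : l + 2 ≤ k) : Commute (t m k) (t m l) := (t_comm h).symm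

theorem t_braid {k : ℕ} (h : k + 1 < m) : (t m k * t m (k + 1)) ^ 3 = 1 := by
  have h1 := t_rel (show k < m by omega) h
  rwa [A_adj (by simp)] at h1

theorem sign_t {k : ℕ} (h : k < m) : Perm.sign (t m k) = -1 := by
  rw [t_of_lt h]
  exact Perm.sign_swap (Fin.castSucc_lt_succ).ne

theorem t_mul_mem {k l : ℕ} (hk : k < m) (hl : l < m) :
    t m k * t m l ∈ alternatingGroup (Fin (m + 1)) := by
  rw [Perm.mem_alternatingGroup, map_mul, sign_t hk, sign_t hl]
  decide

/-- conjugation by a braid pair -/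
theorem braid_conj {G : Type*} [Group G] {a b : G} (ha : a * a = 1) (hb : b * b = 1)
    (hab : (a * b) ^ 3 = 1) : (a * b) * a * (a * b)⁻¹ = b := by
  have ha' : a⁻¹ = a := inv_eq_of_mul_eq_one_right ha
  have hb' : b⁻¹ = b := inv_eq_of_mul_eq_one_right hb
  have h1 : a * b * a * b * a * b = 1 := by
    rw [pow_succ, pow_two] at hab
    rw [← hab]; group
  have h2 : a * b * a * b * a = b⁻¹ := eq_inv_of_mul_eq_one_left h1
  rw [mul_inv_rev, ha', hb', ← mul_assoc]
  rw [hb'] at h2
  exact h2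

/-- **splitting criterion** -/
theorem split_of_lifts (hm : 0 < m) {Γ : Type*} [Group Γ]
    (π : Γ →* alternatingGroup (Fin (m + 1))) (hπ : Function.Surjective π)
    (hc : π.ker ≤ Subgroup.center Γ) (y : ℕ → Γ) (hy0 : y 0 = 1)
    (hy : ∀ k, k < m →
      ((π (y k) : alternatingGroup (Fin (m + 1))) : Perm (Fin (m + 1))) = t m 0 * t m k)
    (hadj : ∀ k, k + 1 < m → ((y k)⁻¹ * y (k + 1)) ^ 3 = 1)
    (hfar : ∀ k l, k + 2 ≤ l → l < m → ((y k)⁻¹ * y l) ^ 2 = 1) :
    π.ker ⊓ commutator Γ = ⊥ := by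
  obtain ⟨cs, hcs⟩ := Cfsg.Agent.S2530.result m
  let π' : Γ →* Perm (Fin (m + 1)) := (alternatingGroup (Fin (m + 1))).subtype.comp π
  have hπ' : ∀ g, π' g = ((π g : alternatingGroup (Fin (m + 1))) : Perm (Fin (m + 1))) :=
    fun _ => rfl
  have hker : π'.ker = π.ker := by
    ext g
    rw [MonoidHom.mem_ker, MonoidHom.mem_ker, hπ']
    exact ⟨fun h => Subtype.ext h, fun h => by rw [h]; rfl⟩
  let Y : Fin m → Γ := fun i => y i.val
  have hlt : ∀ i j : Fin m, i.val < j.val →
      ((Y i)⁻¹ * Y j) ^ CoxeterMatrix.A m i j = 1 := by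
    intro i j hij
    by_cases h1 : i.val + 1 = j.val
    · rw [A_adj h1]
      have := hadj i.val (by rw [h1]; exact j.2)
      rw [h1] at this
      exact this
    · rw [A_far (by omega)]
      exact hfar i.val j.val (by omega) j.2
  have hrel : ∀ i j : Fin m, ((Y i)⁻¹ * Y j) ^ CoxeterMatrix.A m i j = 1 := by
    intro i j
    rcases lt_trichotomy i.val j.val with h | h | h
    · exact hlt i j h
    · have : i = j := Fin.ext h
      subst this
      rw [inv_mul_cancel, one_pow]
    · have h1 := hlt j i h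
      rw [(CoxeterMatrix.A m).symmetric j i] at h1
      have e : (Y i)⁻¹ * Y j = ((Y j)⁻¹ * Y i)⁻¹ := by group
      rw [e, inv_pow, h1, inv_one]
  have hbot := Cfsg.Agent.Lib.Helper35.AltPres.ker_inf_closure_eq_bot (b₀ := ⟨0, hm⟩) cs π' Y hy0
    hrel (by
      intro i
      rw [hπ', hy i.val i.2, hcs, hcs, t_of_lt hm, t_of_lt i.2]
      rfl)
  set L : Subgroup Γ := Subgroup.closure (Set.range Y) with hL
  -- even words are images of elements of `L`
  have hword : ∀ (n : ℕ) (l : List (Fin m)), l.length = 2 * n →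
      ∃ x ∈ L, π' x = (l.map (sw m)).prod := by
    intro n
    induction n with
    | zero =>
      intro l hl
      have : l = [] := List.length_eq_zero_iff.mp (by simpa using hl)
      subst this
      exact ⟨1, Subgroup.one_mem _, by simp⟩
    | succ n ih =>
      intro l hl
      rcases l with _ | ⟨i, _ | ⟨j, l'⟩⟩
      · simp at hl
      · simp at hl; omega
      · have hl' : l'.length = 2 * n := by simp at hl; omega
        obtain ⟨x, hx, hx'⟩ := ih l' hl'
        refine ⟨(Y i)⁻¹ * Y j * x, Subgroup.mul_mem _ (Subgroup.mul_mem _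
          (Subgroup.inv_mem _ (Subgroup.subset_closure ⟨i, rfl⟩))
          (Subgroup.subset_closure ⟨j, rfl⟩)) hx, ?_⟩
        rw [map_mul, map_mul, map_inv, hx', hπ', hπ', hy i.val i.2, hy j.val j.2,
          List.map_cons, List.map_cons, List.prod_cons, List.prod_cons, mul_inv_rev, t_inv,
          t_inv, t_of_lt i.2, t_of_lt j.2]
        have h0 := t_sq (m := m) 0
        rw [← mul_assoc, ← mul_assoc, mul_assoc (sw m _) (t m 0) (t m 0), h0, mul_one]
  have hsurj : ∀ g : Γ, ∃ x ∈ L, π x = π g := by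
    intro g
    obtain ⟨ω, hω⟩ := cs.wordProd_surjective ((π g : alternatingGroup _) : Perm (Fin (m + 1)))
    have hω' : (ω.map (sw m)).prod = ((π g : alternatingGroup _) : Perm (Fin (m + 1))) := by
      rw [← hω]
      show _ = (ω.map cs.simple).prod
      congr 1
      apply List.map_congr_left
      intro i _
      exact (hcs i).symm
    have hlen : Even ω.length := even_of_prod_sw_mem_alt m ω (by rw [hω']; exact (π g).2)
    obtain ⟨n, hn⟩ := hlen
    obtain ⟨x, hx, hx'⟩ := hword n ω (by omega)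
    exact ⟨x, hx, Subtype.ext (by rw [← hπ', hx', hω'])⟩
  have hcomm : commutator Γ ≤ L := by
    rw [commutator_def, Subgroup.commutator_le]
    intro a _ b _
    obtain ⟨x, hx, hxa⟩ := hsurj a
    obtain ⟨x', hx', hxb⟩ := hsurj b
    rw [Cfsg.Agent.Lib.Helper35.SLn.comm_congr π hc hxa.symm hxb.symm, commutatorElement_def]
    exact L.mul_mem (L.mul_mem (L.mul_mem hx hx') (L.inv_mem hx)) (L.inv_mem hx')
  rw [eq_bot_iff]
  intro z hz
  have : z ∈ π'.ker ⊓ L := ⟨by rw [hker]; exact hz.1, hcomm hz.2⟩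
  rw [hbot] at this
  exact this

end Cfsg.Agent.Lib.Helper35.AltM
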