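import Mathlib
import Cfsg.Agent.Lib.Helper35.AltM.Split

set_option autoImplicit false

/-! # Central extensions of `A_n`, `n ≥ 8`, by groups of odd order split -/

namespace Cfsg.Agent.Lib.Helper35.AltM

open Equiv
open scoped commutatorElement
open Cfsg.Agent.Lib.Helper35.SLn (comm_congr comm_mem_center comm_mul_left comm_pow_left
  conj_comm_eq)

variable {m : ℕ}

/-- the composite to the symmetric group -/
def pp {Γ : Type*} [Group Γ] (π : Γ →* alternatingGroup (Fin (m + 1))) :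
    Γ →* Perm (Fin (m + 1)) := (alternatingGroup (Fin (m + 1))).subtype.comp π

theorem pp_apply {Γ : Type*} [Group Γ] (π : Γ →* alternatingGroup (Fin (m + 1))) (g : Γ) :
    pp π g = ((π g : alternatingGroup (Fin (m + 1))) : Perm (Fin (m + 1))) := rfl

theorem pp_ker {Γ : Type*} [Group Γ] (π : Γ →* alternatingGroup (Fin (m + 1))) :
    (pp π).ker = π.ker := by
  ext g
  rw [MonoidHom.mem_ker, MonoidHom.mem_ker, pp_apply]
  exact ⟨fun h => Subtype.ext h, fun h => by rw [h]; rfl⟩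

theorem exists_lift {Γ : Type*} [Group Γ] {π : Γ →* alternatingGroup (Fin (m + 1))}
    (hπ : Function.Surjective π) {d : Perm (Fin (m + 1))}
    (hd : d ∈ alternatingGroup (Fin (m + 1))) : ∃ g, pp π g = d := by
  obtain ⟨g, hg⟩ := hπ ⟨d, hd⟩
  exact ⟨g, by rw [pp_apply, hg]⟩

/-! ### identities in the symmetric group -/

theorem r_mul {k : ℕ} (hk : 2 ≤ k) (l : ℕ) :
    (t m 0 * t m k) * (t m 0 * t m l) = t m k * t m l := by
  have h1 : t m 0 * t m k = t m k * t m 0 := (t_comm (m := m) (k := 0) (l := k) (by omega)).eq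
  rw [h1, mul_assoc, ← mul_assoc (t m 0), t_sq, one_mul]

theorem r_sq {k : ℕ} (hk : 2 ≤ k) : (t m 0 * t m k) * (t m 0 * t m k) = 1 := by
  rw [r_mul hk, t_sq]

theorem r_inv_one {j : ℕ} (hj : 3 ≤ j) :
    (t m 0 * t m j) * (t m 0 * t m 1) * (t m 0 * t m j)⁻¹ = (t m 0 * t m 1)⁻¹ := by
  have c0 : Commute (t m j) (t m 0) := t_comm' (by omega)
  have c1 : Commute (t m j) (t m 1) := t_comm' (by omega)
  rw [mul_inv_rev, mul_inv_rev, t_inv, t_inv, t_inv]
  calc t m 0 * t m j * (t m 0 * t m 1) * (t m j * t m 0)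
      = t m 0 * (t m j * (t m 0 * t m 1)) * (t m j * t m 0) := by group
    _ = t m 0 * ((t m 0 * t m 1) * t m j) * (t m j * t m 0) := by
        rw [(c0.mul_right c1).eq]
    _ = (t m 0 * t m 0) * t m 1 * (t m j * t m j) * t m 0 := by group
    _ = t m 1 * t m 0 := by rw [t_sq, t_sq, one_mul, mul_one]

theorem r3_mul_comm {j : ℕ} (hj : 3 ≤ j) :
    Commute ((t m 0 * t m 3) * (t m 0 * t m j)) (t m 0 * t m 1) := by
  rw [r_mul (by norm_num)]
  have c30 : Commute (t m 3) (t m 0) := t_comm' (by omega)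
  have c31 : Commute (t m 3) (t m 1) := t_comm' (by omega)
  have cj0 : Commute (t m j) (t m 0) := t_comm' (by omega)
  have cj1 : Commute (t m j) (t m 1) := t_comm' (by omega)
  exact (c30.mul_right c31).mul_left (cj0.mul_right cj1)

theorem r6_comm : Commute (t m 0 * t m 6) ((t m 0 * t m 3) * (t m 0 * t m 4)) := by
  rw [r_mul (by norm_num)]
  have c03 : Commute (t m 0) (t m 3) := t_comm (by omega)
  have c04 : Commute (t m 0) (t m 4) := t_comm (by omega)
  have c63 : Commute (t m 6) (t m 3) := t_comm' (by omega)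
  have c64 : Commute (t m 6) (t m 4) := t_comm' (by omega)
  exact (c03.mul_right c04).mul_left (c63.mul_right c64)

theorem r5_comm : Commute (t m 0 * t m 5) (t m 0 * t m 2) := by
  have c02 : Commute (t m 0) (t m 2) := t_comm (by omega)
  have c50 : Commute (t m 5) (t m 0) := t_comm' (by omega)
  have c52 : Commute (t m 5) (t m 2) := t_comm' (by omega)
  exact ((Commute.refl (t m 0)).mul_right c02).mul_left (c50.mul_right c52)

theorem r_far_sq {k l : ℕ} (hk : 2 ≤ k) (hkl : k + 2 ≤ l) :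
    ((t m 0 * t m k) * (t m 0 * t m l)) ^ 2 = 1 := by
  rw [r_mul hk, pow_two]
  have c : Commute (t m k) (t m l) := t_comm hkl
  calc t m k * t m l * (t m k * t m l) = t m k * (t m l * t m k) * t m l := by group
    _ = t m k * (t m k * t m l) * t m l := by rw [c.eq]
    _ = (t m k * t m k) * (t m l * t m l) := by group
    _ = 1 := by rw [t_sq, t_sq, one_mul]

theorem r_adj_cube {k : ℕ} (hk : 2 ≤ k) (hk' : k + 1 < m) :
    ((t m 0 * t m k) * (t m 0 * t m (k + 1))) ^ 3 = 1 := by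
  rw [r_mul hk]; exact t_braid hk'

theorem r12_cube (hm : 2 < m) : ((t m 0 * t m 1)⁻¹ * (t m 0 * t m 2)) ^ 3 = 1 := by
  have e : (t m 0 * t m 1)⁻¹ * (t m 0 * t m 2) = t m 1 * t m 2 := by
    rw [mul_inv_rev, t_inv, t_inv, mul_assoc, ← mul_assoc (t m 0), t_sq, one_mul]
  rw [e]; exact t_braid hm

section Odd

variable {Γ : Type*} [Group Γ] {π : Γ →* alternatingGroup (Fin (m + 1))}
  (hπ : Function.Surjective π) (hc : π.ker ≤ Subgroup.center Γ)
  (h1 : ∀ ξ ∈ π.ker, ξ * ξ = 1 → ξ = 1) (h2 : ∀ ξ ∈ π.ker, ∃ ζ ∈ π.ker, ζ * ζ = ξ)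

include hc in
theorem pp_ker_le : (pp π).ker ≤ Subgroup.center Γ := by rw [pp_ker]; exact hc

omit [Group Γ] in
theorem mem_ker_of_pp {Γ : Type*} [Group Γ] {π : Γ →* alternatingGroup (Fin (m + 1))} {g : Γ}
    (h : pp π g = 1) : g ∈ π.ker := by
  rw [← pp_ker]; exact h

include hπ hc h2 in
theorem exists_inv_lift {d : Perm (Fin (m + 1))} (hd : d ∈ alternatingGroup (Fin (m + 1)))
    (hd2 : d * d = 1) : ∃ g, pp π g = d ∧ g * g = 1 := by
  obtain ⟨g, hg⟩ := exists_lift hπ hd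
  have hξ : (g * g)⁻¹ ∈ π.ker := by
    apply mem_ker_of_pp
    rw [map_inv, map_mul, hg, hd2, inv_one]
  obtain ⟨ζ, hζ, hζ2⟩ := h2 _ hξ
  have hζc := Subgroup.mem_center_iff.1 (hc hζ)
  refine ⟨g * ζ, ?_, ?_⟩
  · rw [map_mul, hg, (pp_ker π ▸ hζ : ζ ∈ (pp π).ker), mul_one]
  · calc g * ζ * (g * ζ) = g * (ζ * g) * ζ := by group
      _ = g * (g * ζ) * ζ := by rw [hζc g]
      _ = (g * g) * (ζ * ζ) := by group
      _ = 1 := by rw [hζ2, mul_inv_cancel]

include hc h1 in
/-- an element inverted by an involution has the order of its image -/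
theorem pow_eq_one_of_inverted {a u : Γ} (hau : a * u * a⁻¹ = u⁻¹) (k : ℕ)
    (hk : pp π u ^ k = 1) : u ^ k = 1 := by
  have hγ : u ^ k ∈ π.ker := mem_ker_of_pp (by rw [map_pow, hk])
  have hγc := Subgroup.mem_center_iff.1 (hc hγ)
  have e1 : a * u ^ k * a⁻¹ = (u ^ k)⁻¹ := by
    rw [← conj_pow, hau, inv_pow]
  have e2 : a * u ^ k * a⁻¹ = u ^ k := by rw [hγc a, mul_inv_cancel_right]
  apply h1 _ hγ
  have : u ^ k = (u ^ k)⁻¹ := e2.symm.trans e1
  calc u ^ k * u ^ k = u ^ k * (u ^ k)⁻¹ := by rw [← this]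
    _ = 1 := mul_inv_cancel _

include hc h1 in
theorem inv_pair_pow {a b : Γ} (ha : a * a = 1) (hb : b * b = 1) (n : ℕ)
    (h : (pp π a * pp π b) ^ n = 1) : (a * b) ^ n = 1 := by
  have ha' : a⁻¹ = a := inv_eq_of_mul_eq_one_right ha
  have hb' : b⁻¹ = b := inv_eq_of_mul_eq_one_right hb
  apply pow_eq_one_of_inverted hc h1 (a := a) _ n (by rw [map_mul]; exact h)
  rw [mul_inv_rev, ha', hb']
  calc a * (a * b) * a = (a * a) * b * a := by group
    _ = b * a := by rw [ha, one_mul]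

include hc h1 in
theorem comm_of_sq {h x : Γ} (hh : h * h = 1) (hcomm : Commute (pp π h) (pp π x)) :
    Commute h x := by
  have hK := pp_ker_le hc
  have hξ : ⁅h, x⁆ ∈ π.ker := by
    apply mem_ker_of_pp
    rw [map_commutatorElement, commutatorElement_eq_one_iff_commute]
    exact hcomm
  have e := comm_pow_left (pp π) hK hcomm 2
  rw [pow_two, hh, pow_two] at e
  have e' : ⁅h, x⁆ * ⁅h, x⁆ = 1 := by
    rw [← e]; simp
  rw [← commutatorElement_eq_one_iff_commute]
  exact h1 _ hξ e'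

include hc h2 in
theorem exists_inverted_lift {a x : Γ}
    (hax : pp π a * pp π x * (pp π a)⁻¹ = (pp π x)⁻¹) :
    ∃ u, pp π u = pp π x ∧ a * u * a⁻¹ = u⁻¹ := by
  have hξ : (x * (a * x * a⁻¹))⁻¹ ∈ π.ker := by
    apply mem_ker_of_pp
    rw [map_inv, map_mul, map_mul, map_mul, map_inv, hax, mul_inv_cancel, inv_one]
  obtain ⟨ζ, hζ, hζ2⟩ := h2 _ hξ
  have hζc := Subgroup.mem_center_iff.1 (hc hζ)
  refine ⟨x * ζ, ?_, ?_⟩
  · rw [map_mul, (pp_ker π ▸ hζ : ζ ∈ (pp π).ker), mul_one]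
  · have e1 : a * (x * ζ) * a⁻¹ = (a * x * a⁻¹) * ζ := by
      calc a * (x * ζ) * a⁻¹ = a * x * (ζ * a⁻¹) := by group
        _ = a * x * (a⁻¹ * ζ) := by rw [hζc a⁻¹]
        _ = (a * x * a⁻¹) * ζ := by group
    have e2 : ζ * ζ * (x * (a * x * a⁻¹)) = 1 := by rw [hζ2, inv_mul_cancel]
    rw [e1, mul_inv_rev]
    have e3 : ζ * x = x * ζ := (hζc x).symm
    -- from e2: a x a⁻¹ = x⁻¹ ζ⁻¹ ζ⁻¹
    have e4 : a * x * a⁻¹ = x⁻¹ * (ζ⁻¹ * ζ⁻¹) := by
      have : x * (a * x * a⁻¹) = (ζ * ζ)⁻¹ := eq_inv_of_mul_eq_one_right e2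
      rw [mul_inv_rev] at this
      rw [← this]; group
    rw [e4]
    have e5 : x⁻¹ * ζ⁻¹ = ζ⁻¹ * x⁻¹ := by
      rw [← mul_inv_rev, ← mul_inv_rev, e3]
    calc x⁻¹ * (ζ⁻¹ * ζ⁻¹) * ζ = x⁻¹ * ζ⁻¹ := by group
      _ = ζ⁻¹ * x⁻¹ := e5

include hc h1 in
theorem comm_of_inverting' {u v θ : Γ} (huv : Commute (pp π u) (pp π v))
    (hθu : pp π θ * pp π u * (pp π θ)⁻¹ = (pp π u)⁻¹) (hθv : Commute (pp π θ) (pp π v)) :
    Commute u v := by
  have hK := pp_ker_le hc
  have hξ : ⁅u, v⁆ ∈ π.ker := by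
    apply mem_ker_of_pp
    rw [map_commutatorElement, commutatorElement_eq_one_iff_commute]
    exact huv
  have e1 : ⁅θ * u * θ⁻¹, θ * v * θ⁻¹⁆ = ⁅u, v⁆ := conj_comm_eq (pp π) hK θ huv
  have e2 : ⁅θ * u * θ⁻¹, θ * v * θ⁻¹⁆ = ⁅u⁻¹, v⁆ := by
    apply comm_congr (pp π) hK
    · rw [map_mul, map_mul, map_inv, hθu, map_inv]
    · rw [map_mul, map_mul, map_inv, hθv.eq, mul_inv_cancel_right]
  have e3 : ⁅u⁻¹, v⁆ * ⁅u, v⁆ = 1 := by
    rw [← comm_mul_left (pp π) hK huv, inv_mul_cancel]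
    simp
  rw [← commutatorElement_eq_one_iff_commute]
  apply h1 _ hξ
  rw [← e2, e1] at e3
  exact e3

include hπ hc h1 h2 in
/-- **odd part**: a central extension of `A_n`, `n ≥ 8`, with kernel of odd order has no
kernel elements in the commutator subgroup -/
theorem odd_split (hm : 7 ≤ m) : π.ker ⊓ commutator Γ = ⊥ := by
  have hmem : ∀ k, k < m → t m 0 * t m k ∈ alternatingGroup (Fin (m + 1)) :=
    fun k hk => t_mul_mem (by omega) hk
  have hex : ∀ k, ∃ g : Γ, 2 ≤ k → k < m → pp π g = t m 0 * t m k ∧ g * g = 1 := by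
    intro k
    by_cases hk : 2 ≤ k ∧ k < m
    · obtain ⟨g, hg1, hg2⟩ := exists_inv_lift hπ hc h2 (hmem k hk.2) (r_sq hk.1)
      exact ⟨g, fun _ _ => ⟨hg1, hg2⟩⟩
    · exact ⟨1, fun h h' => absurd ⟨h, h'⟩ hk⟩
  choose Y hY using hex
  have hYp : ∀ k, 2 ≤ k → k < m → pp π (Y k) = t m 0 * t m k := fun k h h' => (hY k h h').1
  have hYs : ∀ k, 2 ≤ k → k < m → Y k * Y k = 1 := fun k h h' => (hY k h h').2
  have hYi : ∀ k, 2 ≤ k → k < m → (Y k)⁻¹ = Y k :=
    fun k h h' => inv_eq_of_mul_eq_one_right (hYs k h h')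
  obtain ⟨x, hx⟩ := exists_lift hπ (hmem 1 (by omega))
  obtain ⟨u, hu, hu3⟩ := exists_inverted_lift hc h2 (a := Y 3) (x := x) (by
    rw [hYp 3 (by norm_num) (by omega), hx]; exact r_inv_one (le_refl 3))
  rw [hx] at hu
  -- every `Y j`, `j ≥ 3`, inverts `u`
  have hinv : ∀ j, 3 ≤ j → j < m → Y j * u * (Y j)⁻¹ = u⁻¹ := by
    intro j hj hjm
    have hv : Commute (Y 3 * Y j) u := by
      by_cases h4 : j = 4
      · subst h4
        apply (comm_of_inverting' hc h1 (θ := Y 6) _ _ _).symm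
        · rw [map_mul, hu, hYp 3 (by norm_num) (by omega), hYp 4 (by norm_num) (by omega)]
          exact (r3_mul_comm (by norm_num)).symm
        · rw [hu, hYp 6 (by norm_num) (by omega)]
          exact r_inv_one (by norm_num)
        · rw [map_mul, hYp 6 (by norm_num) (by omega), hYp 3 (by norm_num) (by omega),
            hYp 4 (by norm_num) (by omega)]
          exact r6_comm
      · by_cases h3 : j = 3
        · subst h3
          rw [hYs 3 (by norm_num) (by omega)]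
          exact Commute.one_left _
        · have hsq : (Y 3 * Y j) * (Y 3 * Y j) = 1 := by
            rw [← pow_two]
            apply inv_pair_pow hc h1 (hYs 3 (by norm_num) (by omega)) (hYs j (by omega) hjm)
            rw [hYp 3 (by norm_num) (by omega), hYp j (by omega) hjm]
            exact r_far_sq (by norm_num) (by omega)
          apply comm_of_sq hc h1 hsq
          rw [map_mul, hu, hYp 3 (by norm_num) (by omega), hYp j (by omega) hjm]
          exact r3_mul_comm hj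
    have e3 := hYi 3 (by norm_num) (by omega)
    have ej := hYi j (by omega) hjm
    calc Y j * u * (Y j)⁻¹ = (Y 3)⁻¹ * ((Y 3 * Y j) * u) * (Y j)⁻¹ := by group
      _ = (Y 3)⁻¹ * (u * (Y 3 * Y j)) * (Y j)⁻¹ := by rw [hv.eq]
      _ = (Y 3)⁻¹ * u * Y 3 := by group
      _ = Y 3 * u * (Y 3)⁻¹ := by rw [e3]
      _ = u⁻¹ := hu3
  have hinv' : ∀ j, 3 ≤ j → j < m → Y j * u⁻¹ = u * Y j := by
    intro j hj hjm
    have e := congrArg (fun g : Γ => g⁻¹) (hinv j hj hjm)
    simp only [mul_inv_rev, inv_inv] at e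
    rw [← mul_assoc, mul_inv_eq_iff_eq_mul] at e
    exact e
  have hfar1 : ∀ l, 3 ≤ l → l < m → (u⁻¹ * Y l) * (u⁻¹ * Y l) = 1 := by
    intro l hl hlm
    calc u⁻¹ * Y l * (u⁻¹ * Y l) = u⁻¹ * (Y l * u⁻¹) * Y l := by group
      _ = u⁻¹ * (u * Y l) * Y l := by rw [hinv' l hl hlm]
      _ = Y l * Y l := by group
      _ = 1 := hYs l (by omega) hlm
  have hu3' : u ^ 3 = 1 := by
    apply pow_eq_one_of_inverted hc h1 hu3 3
    rw [hu]
    exact t_braid (by omega)
  have h12 : (u⁻¹ * Y 2) ^ 3 = 1 := by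
    have c52 : Commute (Y 5) (Y 2) := by
      apply comm_of_sq hc h1 (hYs 5 (by norm_num) (by omega))
      rw [hYp 5 (by norm_num) (by omega), hYp 2 (by norm_num) (by omega)]
      exact r5_comm
    apply pow_eq_one_of_inverted hc h1 (a := u⁻¹ * Y 5) _ 3
    · rw [map_mul, map_inv, hu, hYp 2 (by norm_num) (by omega)]
      exact r12_cube (by omega)
    · have e5 := hYi 5 (by norm_num) (by omega)
      have e2 := hYi 2 (by norm_num) (by omega)
      rw [mul_inv_rev, mul_inv_rev, inv_inv, e5, e2]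
      calc u⁻¹ * Y 5 * (u⁻¹ * Y 2) * (Y 5 * u)
          = u⁻¹ * (Y 5 * u⁻¹) * Y 2 * Y 5 * u := by group
        _ = u⁻¹ * (u * Y 5) * Y 2 * Y 5 * u := by rw [hinv' 5 (by norm_num) (by omega)]
        _ = (Y 5 * Y 2) * Y 5 * u := by group
        _ = (Y 2 * Y 5) * Y 5 * u := by rw [c52.eq]
        _ = Y 2 * (Y 5 * Y 5) * u := by group
        _ = Y 2 * u := by rw [hYs 5 (by norm_num) (by omega), mul_one]
  -- the lifts
  let y : ℕ → Γ := fun k => if k = 0 then 1 else if k = 1 then u else Y k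
  have y0 : y 0 = 1 := rfl
  have y1 : y 1 = u := rfl
  have yk : ∀ k, 2 ≤ k → y k = Y k := by
    intro k hk
    show (if k = 0 then 1 else if k = 1 then u else Y k) = Y k
    rw [if_neg (by omega), if_neg (by omega)]
  refine split_of_lifts (by omega) π hπ hc y y0 ?_ ?_ ?_
  · intro k hk
    rcases Nat.lt_or_ge k 2 with h | h
    · interval_cases k
      · rw [y0, map_one, t_sq]; rfl
      · rw [y1, ← pp_apply, hu]
    · rw [yk k h, ← pp_apply, hYp k h hk]
  · intro k hk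
    rcases Nat.lt_or_ge k 2 with h | h
    · interval_cases k
      · rw [y0, y1, inv_one, one_mul]; exact hu3'
      · rw [y1, yk 2 (le_refl 2)]; exact h12
    · rw [yk k h, yk (k + 1) (by omega), hYi k h (by omega)]
      apply inv_pair_pow hc h1 (hYs k h (by omega)) (hYs (k + 1) (by omega) hk)
      rw [hYp k h (by omega), hYp (k + 1) (by omega) hk]
      exact r_adj_cube h hk
  · intro k l hkl hl
    rcases Nat.lt_or_ge k 2 with h | h
    · interval_cases k
      · rw [y0, yk l (by omega), inv_one, one_mul, pow_two]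
        exact hYs l (by omega) hl
      · rw [y1, yk l (by omega), pow_two]
        exact hfar1 l (by omega) hl
    · rw [yk k h, yk l (by omega), hYi k h (by omega)]
      apply inv_pair_pow hc h1 (hYs k h (by omega)) (hYs l (by omega) hl)
      rw [hYp k h (by omega), hYp l (by omega) hl]
      exact r_far_sq h hkl

end Odd

end Cfsg.Agent.Lib.Helper35.AltM
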