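import Mathlib
import Cfsg.Agent.Lib.Helper35.AltM.Odd

set_option autoImplicit false

/-! # Central extensions of `A_n` by groups of exponent two in which a four-group lifts to an
abelian group split -/

namespace Cfsg.Agent.Lib.Helper35.AltM

open Equiv
open scoped commutatorElement

variable {m : ℕ}

/-- an identity in the symmetric group of degree four -/
theorem v4_identity {G : Type*} [Group G] {p q s : G} (hp : p * p = 1) (hq : q * q = 1)
    (hs : s * s = 1) (hps : p * s = s * p) (hpq : (p * q) ^ 3 = 1) (hqs : (q * s) ^ 3 = 1) :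
    (q * s) * ((q * s) * (p * s) * (q * s)⁻¹) * (q * s)⁻¹ =
      (p * s) * ((q * s) * (p * s) * (q * s)⁻¹) := by
  have hp' : p⁻¹ = p := inv_eq_of_mul_eq_one_right hp
  have hq' : q⁻¹ = q := inv_eq_of_mul_eq_one_right hq
  have hs' : s⁻¹ = s := inv_eq_of_mul_eq_one_right hs
  have b1 : q * s * q * s = s * q := by
    have h : q * s * q * s * (q * s) = 1 := by
      rw [pow_succ, pow_two] at hqs
      rw [← hqs]; group
    have h' := eq_inv_of_mul_eq_one_left h
    rw [mul_inv_rev, hq', hs'] at h'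
    exact h'
  have b2 : q * p * q = p * q * p := by
    have h : p * q * p * (q * p * q) = 1 := by
      rw [pow_succ, pow_two] at hpq
      rw [← hpq]; group
    have h' := eq_inv_of_mul_eq_one_right h
    rw [mul_inv_rev, mul_inv_rev, hq', hp'] at h'
    rw [h', mul_assoc]
  rw [mul_inv_rev, hq', hs']
  calc q * s * (q * s * (p * s) * (s * q)) * (s * q)
      = (q * s * q * s) * p * (s * s) * q * s * q := by group
    _ = s * (q * p * q) * s * q := by rw [b1, hs]; group
    _ = s * (p * q * p) * s * q := by rw [b2]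
    _ = (s * p) * q * (p * s) * q := by group
    _ = (p * s) * q * (s * p) * q := by rw [hps]
    _ = p * s * (q * s * (p * s) * (s * q)) := by
        have : p * s * (q * s * (p * s) * (s * q)) = (p * s) * q * s * p * (s * s) * q := by group
        rw [this, hs]; group

section Even

variable {Γ : Type*} [Group Γ] {π : Γ →* alternatingGroup (Fin (m + 1))}
  (hπ : Function.Surjective π) (hc : π.ker ≤ Subgroup.center Γ)
  (hexp : ∀ ξ ∈ π.ker, ξ * ξ = 1)

include hc hexp in
/-- squares of lifts depend only on the image -/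
theorem sq_eq_of_pp_eq {g g' : Γ} (h : pp π g = pp π g') : g * g = g' * g' := by
  have hζ : g⁻¹ * g' ∈ π.ker := by
    apply mem_ker_of_pp
    rw [map_mul, map_inv, h, inv_mul_cancel]
  have hζc := Subgroup.mem_center_iff.1 (hc hζ)
  have e : g' = g * (g⁻¹ * g') := by group
  rw [e]
  calc g * g = g * g * 1 := (mul_one _).symm
    _ = g * g * ((g⁻¹ * g') * (g⁻¹ * g')) := by rw [hexp _ hζ]
    _ = g * (g * (g⁻¹ * g')) * (g⁻¹ * g') := by group
    _ = g * ((g⁻¹ * g') * g) * (g⁻¹ * g') := by rw [hζc g]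
    _ = g * (g⁻¹ * g') * (g * (g⁻¹ * g')) := by group

/-- all lifts are involutions -/
def SqOne (π : Γ →* alternatingGroup (Fin (m + 1))) (d : Perm (Fin (m + 1))) : Prop :=
  ∀ g : Γ, pp π g = d → g * g = 1

include hπ in
theorem SqOne.conj {d c : Perm (Fin (m + 1))} (hd : SqOne π d)
    (hcA : c ∈ alternatingGroup (Fin (m + 1))) : SqOne π (c * d * c⁻¹) := by
  intro g hg
  obtain ⟨c', hc'⟩ := exists_lift hπ hcA
  have hh : pp π (c'⁻¹ * g * c') = d := by
    rw [map_mul, map_mul, map_inv, hg, hc']; group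
  have h1 := hd _ hh
  have h2 : g * g = c' * ((c'⁻¹ * g * c') * (c'⁻¹ * g * c')) * c'⁻¹ := by group
  rw [h2, h1, mul_one, mul_inv_cancel]

include hπ hc hexp in
theorem sqOne_zero (hx0 : SqOne π (t m 0 * t m 2)) :
    ∀ j, 2 ≤ j → j < m → SqOne π (t m 0 * t m j) := by
  intro j hj
  induction j, hj using Nat.le_induction with
  | base => intro _; exact hx0
  | succ j hj ih =>
    intro hjm
    have h1 := (ih (by omega)).conj hπ (t_mul_mem (show j < m by omega) hjm)
    have c0 : Commute (t m j * t m (j + 1)) (t m 0) :=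
      (t_comm' (by omega)).mul_left (t_comm' (by omega))
    have e : t m j * t m (j + 1) * (t m 0 * t m j) * (t m j * t m (j + 1))⁻¹ =
        t m 0 * t m (j + 1) := by
      have hb := braid_conj (t_sq (m := m) j) (t_sq (m := m) (j + 1)) (t_braid hjm)
      calc t m j * t m (j + 1) * (t m 0 * t m j) * (t m j * t m (j + 1))⁻¹
          = (t m j * t m (j + 1) * t m 0) * t m j * (t m j * t m (j + 1))⁻¹ := by group
        _ = (t m 0 * (t m j * t m (j + 1))) * t m j * (t m j * t m (j + 1))⁻¹ := by rw [c0.eq]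
        _ = t m 0 * ((t m j * t m (j + 1)) * t m j * (t m j * t m (j + 1))⁻¹) := by group
        _ = t m 0 * t m (j + 1) := by rw [hb]
    rw [e] at h1
    exact h1

include hπ hc hexp in
theorem sqOne_all (hx0 : SqOne π (t m 0 * t m 2)) :
    ∀ i j, i + 2 ≤ j → j < m → SqOne π (t m i * t m j) := by
  intro i
  induction i with
  | zero => intro j hj hjm; exact sqOne_zero hπ hc hexp hx0 j (by omega) hjm
  | succ i ih =>
    intro j hj hjm
    have h1 := (ih j (by omega) hjm).conj hπ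
      (t_mul_mem (show i < m by omega) (show i + 1 < m by omega))
    have cj : Commute (t m i * t m (i + 1)) (t m j) :=
      (t_comm (by omega)).mul_left (t_comm (by omega))
    have e : t m i * t m (i + 1) * (t m i * t m j) * (t m i * t m (i + 1))⁻¹ =
        t m (i + 1) * t m j := by
      have hb := braid_conj (t_sq (m := m) i) (t_sq (m := m) (i + 1))
        (t_braid (show i + 1 < m by omega))
      calc t m i * t m (i + 1) * (t m i * t m j) * (t m i * t m (i + 1))⁻¹
          = (t m i * t m (i + 1)) * t m i * (t m j * (t m i * t m (i + 1))⁻¹) := by group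
        _ = (t m i * t m (i + 1)) * t m i * ((t m i * t m (i + 1))⁻¹ * t m j) := by
            rw [cj.inv_left.eq]
        _ = ((t m i * t m (i + 1)) * t m i * (t m i * t m (i + 1))⁻¹) * t m j := by group
        _ = t m (i + 1) * t m j := by rw [hb]
    rw [e] at h1
    exact h1

include hπ hc hexp in
theorem exists_cube_lift (g₀ : Γ) {d : Perm (Fin (m + 1))}
    (hd : d ∈ alternatingGroup (Fin (m + 1))) (h3 : ((pp π g₀)⁻¹ * d) ^ 3 = 1) :
    ∃ g, pp π g = d ∧ (g₀⁻¹ * g) ^ 3 = 1 := by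
  obtain ⟨h, hh⟩ := exists_lift hπ hd
  have hγ : (g₀⁻¹ * h) ^ 3 ∈ π.ker := by
    apply mem_ker_of_pp
    rw [map_pow, map_mul, map_inv, hh, h3]
  have hγc := Subgroup.mem_center_iff.1 (hc hγ)
  refine ⟨h * (g₀⁻¹ * h) ^ 3, ?_, ?_⟩
  · rw [map_mul, hh, (pp_ker π ▸ hγ : (g₀⁻¹ * h) ^ 3 ∈ (pp π).ker), mul_one]
  · have hcm : Commute (g₀⁻¹ * h) ((g₀⁻¹ * h) ^ 3) := (Commute.refl _).pow_right 3
    rw [← mul_assoc, hcm.mul_pow, ← pow_succ', ← pow_mul]
    have e : (g₀⁻¹ * h) ^ (3 * (3 + 1)) = (((g₀⁻¹ * h) ^ 3) * ((g₀⁻¹ * h) ^ 3)) ^ 2 := by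
      rw [← pow_add, ← pow_mul]
    rw [e, hexp _ hγ, one_pow]

include hπ hc hexp in
/-- **even part** -/
theorem even_split (hm : 3 ≤ m) {x c : Γ} (hx : pp π x = t m 0 * t m 2)
    (hcp : pp π c = t m 1 * t m 2) (hcomm : Commute x (c * x * c⁻¹)) :
    π.ker ⊓ commutator Γ = ⊥ := by
  -- `x` is an involution
  have hβ : x * x ∈ π.ker := by
    apply mem_ker_of_pp
    rw [map_mul, hx]; exact r_sq (le_refl 2)
  have hβc := Subgroup.mem_center_iff.1 (hc hβ)
  have hy2 : (c * x * c⁻¹) * (c * x * c⁻¹) = x * x := by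
    calc (c * x * c⁻¹) * (c * x * c⁻¹) = c * (x * x) * c⁻¹ := by group
      _ = x * x := by rw [hβc c, mul_inv_cancel_right]
  have hxy : pp π (x * (c * x * c⁻¹)) = pp π (c * (c * x * c⁻¹) * c⁻¹) := by
    simp only [map_mul, map_inv, hx, hcp]
    exact (v4_identity (t_sq 0) (t_sq 1) (t_sq 2) (t_comm (by norm_num)).eq
      (t_braid (by omega)) (t_braid (by omega))).symm
  have h3 := sq_eq_of_pp_eq hc hexp hxy
  have h4 : (c * (c * x * c⁻¹) * c⁻¹) * (c * (c * x * c⁻¹) * c⁻¹) = x * x := by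
    calc (c * (c * x * c⁻¹) * c⁻¹) * (c * (c * x * c⁻¹) * c⁻¹)
        = c * ((c * x * c⁻¹) * (c * x * c⁻¹)) * c⁻¹ := by group
      _ = x * x := by rw [hy2, hβc c, mul_inv_cancel_right]
  have h5 : (x * (c * x * c⁻¹)) * (x * (c * x * c⁻¹)) = 1 := by
    calc (x * (c * x * c⁻¹)) * (x * (c * x * c⁻¹))
        = x * ((c * x * c⁻¹) * x) * (c * x * c⁻¹) := by group
      _ = x * (x * (c * x * c⁻¹)) * (c * x * c⁻¹) := by rw [hcomm.eq]
      _ = (x * x) * ((c * x * c⁻¹) * (c * x * c⁻¹)) := by group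
      _ = 1 := by rw [hy2, hexp _ hβ]
  have hxx : x * x = 1 := by rw [← h4, ← h3, h5]
  have hx0 : SqOne π (t m 0 * t m 2) := by
    intro g hg
    rw [sq_eq_of_pp_eq hc hexp (hg.trans hx.symm), hxx]
  have hall := sqOne_all hπ hc hexp hx0
  -- the lifts
  have hmem : ∀ k, k < m → t m 0 * t m k ∈ alternatingGroup (Fin (m + 1)) :=
    fun k hk => t_mul_mem (by omega) hk
  have hr3 : ∀ k, k + 1 < m → ((t m 0 * t m k)⁻¹ * (t m 0 * t m (k + 1))) ^ 3 = 1 := by
    intro k hk
    have e : (t m 0 * t m k)⁻¹ * (t m 0 * t m (k + 1)) = t m k * t m (k + 1) := by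
      rw [mul_inv_rev, t_inv, t_inv, mul_assoc, ← mul_assoc (t m 0), t_sq, one_mul]
    rw [e]; exact t_braid hk
  have hex : ∀ (k : ℕ) (g₀ : Γ), ∃ g : Γ, pp π g₀ = t m 0 * t m k → k + 1 < m →
      pp π g = t m 0 * t m (k + 1) ∧ (g₀⁻¹ * g) ^ 3 = 1 := by
    intro k g₀
    by_cases h : pp π g₀ = t m 0 * t m k ∧ k + 1 < m
    · obtain ⟨g, hg1, hg2⟩ := exists_cube_lift hπ hc hexp g₀ (hmem (k + 1) h.2)
        (by rw [h.1]; exact hr3 k h.2)
      exact ⟨g, fun _ _ => ⟨hg1, hg2⟩⟩
    · exact ⟨1, fun h1 h2 => absurd ⟨h1, h2⟩ h⟩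
  choose nxt hnxt using hex
  let y : ℕ → Γ := fun k => Nat.rec 1 (fun k g => nxt k g) k
  have y0 : y 0 = 1 := rfl
  have ys : ∀ k, y (k + 1) = nxt k (y k) := fun k => rfl
  have hyp : ∀ k, k < m → pp π (y k) = t m 0 * t m k := by
    intro k
    induction k with
    | zero => intro _; rw [y0, map_one, t_sq]
    | succ k ih =>
      intro hk
      rw [ys]
      exact (hnxt k (y k) (ih (by omega)) hk).1
  refine split_of_lifts (by omega) π hπ hc y y0 ?_ ?_ ?_
  · intro k hk
    rw [← pp_apply]; exact hyp k hk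
  · intro k hk
    rw [ys]
    exact (hnxt k (y k) (hyp k (by omega)) hk).2
  · intro k l hkl hl
    rw [pow_two]
    apply hall k l hkl hl
    rw [map_mul, map_inv, hyp k (by omega), hyp l hl, mul_inv_rev, t_inv, t_inv, mul_assoc,
      ← mul_assoc (t m 0), t_sq, one_mul]

end Even

end Cfsg.Agent.Lib.Helper35.AltM
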