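import Mathlib
import Cfsg.Agent.Lib.Helper35.AltM.Even
import Cfsg.Agent.Lib.Helper35.SchurLocal

set_option autoImplicit false

/-! # The kernel of a stem extension of `A_n`, `n ≥ 4`, `n ≠ 6, 7`, has order at most two -/

namespace Cfsg.Agent.Lib.Helper35.AltM

open Equiv
open scoped commutatorElement
open Cfsg.Agent.Lib.Helper35.SLn (comm_pow_left comm_one_of_map_one_left)

section Quot

variable {Γ G : Type*} [Group Γ] [Group G] (π : Γ →* G) (M : Subgroup Γ) [M.Normal]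
  (hM : M ≤ π.ker)

/-- the induced map on the quotient -/
def qmap : Γ ⧸ M →* G := QuotientGroup.lift M π hM

theorem qmap_mk (g : Γ) : qmap π M hM (QuotientGroup.mk g) = π g := rfl

theorem qmap_surjective (hπ : Function.Surjective π) : Function.Surjective (qmap π M hM) := by
  intro a
  obtain ⟨g, rfl⟩ := hπ a
  exact ⟨QuotientGroup.mk g, rfl⟩

theorem mem_qmap_ker {q : Γ ⧸ M} (hq : q ∈ (qmap π M hM).ker) :
    ∃ z ∈ π.ker, (QuotientGroup.mk z : Γ ⧸ M) = q := by
  obtain ⟨g, rfl⟩ := QuotientGroup.mk_surjective q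
  exact ⟨g, hq, rfl⟩

theorem qmap_ker_le_center (hc : π.ker ≤ Subgroup.center Γ) :
    (qmap π M hM).ker ≤ Subgroup.center (Γ ⧸ M) := by
  intro q hq
  obtain ⟨z, hz, rfl⟩ := mem_qmap_ker π M hM hq
  rw [Subgroup.mem_center_iff]
  intro q'
  obtain ⟨g, rfl⟩ := QuotientGroup.mk_surjective q'
  rw [← QuotientGroup.mk_mul, ← QuotientGroup.mk_mul, Subgroup.mem_center_iff.1 (hc hz) g]

theorem ker_le_of_qmap_split (hd : π.ker ≤ commutator Γ)
    (h : (qmap π M hM).ker ⊓ commutator (Γ ⧸ M) = ⊥) : π.ker ≤ M := by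
  intro z hz
  have h1 : (QuotientGroup.mk z : Γ ⧸ M) ∈ (qmap π M hM).ker := by
    rw [MonoidHom.mem_ker, qmap_mk]; exact hz
  have h2 : (QuotientGroup.mk z : Γ ⧸ M) ∈ commutator (Γ ⧸ M) := by
    have hle : commutator Γ ≤ (commutator (Γ ⧸ M)).comap (QuotientGroup.mk' M) := by
      rw [commutator_def, Subgroup.commutator_le]
      intro a _ b _
      rw [Subgroup.mem_comap, map_commutatorElement, commutator_def]
      exact Subgroup.commutator_mem_commutator (Subgroup.mem_top _) (Subgroup.mem_top _)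
    exact hle (hd hz)
  have h3 : (QuotientGroup.mk z : Γ ⧸ M) ∈ (⊥ : Subgroup (Γ ⧸ M)) := by
    rw [← h]; exact ⟨h1, h2⟩
  rw [Subgroup.mem_bot, QuotientGroup.eq_one_iff] at h3
  exact h3

end Quot

theorem normal_of_le_center {Γ : Type*} [Group Γ] {M : Subgroup Γ}
    (h : M ≤ Subgroup.center Γ) : M.Normal :=
  ⟨fun n hn g => by
    rw [Subgroup.mem_center_iff.1 (h hn) g, mul_inv_cancel_right]; exact hn⟩

theorem v4_commute {G : Type*} [Group G] {p q s : G} (hp : p * p = 1) (hq : q * q = 1)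
    (hs : s * s = 1) (hps : p * s = s * p) (hpq : (p * q) ^ 3 = 1) (hqs : (q * s) ^ 3 = 1) :
    Commute (p * s) ((q * s) * (p * s) * (q * s)⁻¹) := by
  have hv := v4_identity hp hq hs hps hpq hqs
  have ha : (p * s) * (p * s) = 1 := by
    calc p * s * (p * s) = p * (s * p) * s := by group
      _ = p * (p * s) * s := by rw [hps]
      _ = (p * p) * (s * s) := by group
      _ = 1 := by rw [hp, hs, one_mul]
  have hb : ((q * s) * (p * s) * (q * s)⁻¹) * ((q * s) * (p * s) * (q * s)⁻¹) = 1 := by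
    calc ((q * s) * (p * s) * (q * s)⁻¹) * ((q * s) * (p * s) * (q * s)⁻¹)
        = (q * s) * ((p * s) * (p * s)) * (q * s)⁻¹ := by group
      _ = 1 := by rw [ha, mul_one, mul_inv_cancel]
  have hab : ((p * s) * ((q * s) * (p * s) * (q * s)⁻¹)) *
      ((p * s) * ((q * s) * (p * s) * (q * s)⁻¹)) = 1 := by
    rw [← hv]
    calc (q * s) * ((q * s) * (p * s) * (q * s)⁻¹) * (q * s)⁻¹ *
          ((q * s) * ((q * s) * (p * s) * (q * s)⁻¹) * (q * s)⁻¹)
        = (q * s) * (((q * s) * (p * s) * (q * s)⁻¹) * ((q * s) * (p * s) * (q * s)⁻¹)) *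
            (q * s)⁻¹ := by group
      _ = 1 := by rw [hb, mul_one, mul_inv_cancel]
  generalize (q * s) * (p * s) * (q * s)⁻¹ = b at hb hab ⊢
  generalize p * s = a at ha hab ⊢
  have ha' : a⁻¹ = a := inv_eq_of_mul_eq_one_right ha
  have hb' : b⁻¹ = b := inv_eq_of_mul_eq_one_right hb
  have h1 : a * b = (a * b)⁻¹ := eq_inv_of_mul_eq_one_left hab
  rw [mul_inv_rev, ha', hb'] at h1
  exact h1

theorem card_alt_four : Nat.card (alternatingGroup (Fin 4)) = 3 * 4 := by
  have h := two_mul_card_alternatingGroup (α := Fin 4)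
  rw [Fintype.card_perm, Fintype.card_fin] at h
  rw [Nat.card_eq_fintype_card]
  have : Nat.factorial 4 = 24 := rfl
  omega

theorem card_alt_five : Nat.card (alternatingGroup (Fin 5)) = 60 := by
  have h := two_mul_card_alternatingGroup (α := Fin 5)
  rw [Fintype.card_perm, Fintype.card_fin] at h
  rw [Nat.card_eq_fintype_card]
  have : Nat.factorial 5 = 120 := rfl
  omega

/-- small degrees: the kernel has exponent dividing four -/
theorem pow_four_eq_one_of_small {m : ℕ} (hm : m = 3 ∨ m = 4) {Γ : Type*} [Group Γ]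
    (π : Γ →* alternatingGroup (Fin (m + 1))) (hπ : Function.Surjective π)
    (hc : π.ker ≤ Subgroup.center Γ) (hd : π.ker ≤ commutator Γ) {z : Γ} (hz : z ∈ π.ker) :
    z ^ 4 = 1 := by
  have hst : Cfsg.IsStemExtension π := ⟨hπ, hc, hd⟩
  have hp3 : Fact (Nat.Prime 3) := ⟨by norm_num⟩
  have hp5 : Fact (Nat.Prime 5) := ⟨by norm_num⟩
  rcases hm with rfl | rfl
  · let x : alternatingGroup (Fin 4) := ⟨Equiv.swap 0 1 * Equiv.swap 1 2, by
      rw [Equiv.Perm.mem_alternatingGroup, map_mul, Equiv.Perm.sign_swap (by decide),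
        Equiv.Perm.sign_swap (by decide)]; decide⟩
    have hx : orderOf x = 3 := orderOf_eq_prime (by decide) (by decide)
    exact Cfsg.Agent.Lib.Helper35.stem_pow_eq_one_of_orderOf π hst hz x 3 4 (by norm_num) hx
      card_alt_four
  · let x : alternatingGroup (Fin 5) := ⟨Equiv.swap 0 1 * Equiv.swap 1 2, by
      rw [Equiv.Perm.mem_alternatingGroup, map_mul, Equiv.Perm.sign_swap (by decide),
        Equiv.Perm.sign_swap (by decide)]; decide⟩
    have hx : orderOf x = 3 := orderOf_eq_prime (by decide) (by decide)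
    let x' : alternatingGroup (Fin 5) :=
      ⟨Equiv.swap 0 1 * Equiv.swap 1 2 * Equiv.swap 2 3 * Equiv.swap 3 4, by
        rw [Equiv.Perm.mem_alternatingGroup, map_mul, map_mul, map_mul,
          Equiv.Perm.sign_swap (by decide), Equiv.Perm.sign_swap (by decide),
          Equiv.Perm.sign_swap (by decide), Equiv.Perm.sign_swap (by decide)]; decide⟩
    have hx' : orderOf x' = 5 := orderOf_eq_prime (by decide) (by decide)
    have h20 := Cfsg.Agent.Lib.Helper35.stem_pow_eq_one_of_orderOf π hst hz x 3 20 (by norm_num)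
      hx card_alt_five
    have h12 := Cfsg.Agent.Lib.Helper35.stem_pow_eq_one_of_orderOf π hst hz x' 5 12
      (by norm_num) hx' card_alt_five
    have := pow_gcd_eq_one.2 ⟨h20, h12⟩
    exact this

/-- **Schur**: the kernel of a finite stem extension of `A_n`, `n ≥ 4`, `n ≠ 6, 7`, has order at
most two -/
theorem card_ker_le_two {m : ℕ} (hm : m = 3 ∨ m = 4 ∨ 7 ≤ m) {Γ : Type*} [Group Γ] [Finite Γ]
    (π : Γ →* alternatingGroup (Fin (m + 1))) (hπ : Function.Surjective π)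
    (hc : π.ker ≤ Subgroup.center Γ) (hd : π.ker ≤ commutator Γ) : Nat.card π.ker ≤ 2 := by
  have hm3 : 3 ≤ m := by omega
  obtain ⟨x, hx⟩ := exists_lift hπ (t_mul_mem (show 0 < m by omega) (show 2 < m by omega))
  obtain ⟨c, hcp⟩ := exists_lift hπ (t_mul_mem (show 1 < m by omega) (show 2 < m by omega))
  have hK := pp_ker_le hc
  have hab : Commute (pp π x) (pp π (c * x * c⁻¹)) := by
    rw [map_mul, map_mul, map_inv, hx, hcp]
    exact v4_commute (t_sq 0) (t_sq 1) (t_sq 2) (t_comm (by norm_num)).eq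
      (t_braid (by omega)) (t_braid (by omega))
  obtain ⟨ε, hε⟩ : ∃ ε, ε = ⁅x, c * x * c⁻¹⁆ := ⟨_, rfl⟩
  have hεK : ε ∈ π.ker := by
    apply mem_ker_of_pp
    rw [hε, map_commutatorElement, commutatorElement_eq_one_iff_commute]
    exact hab
  have hε2 : ε ^ 2 = 1 := by
    have e := comm_pow_left (pp π) hK hab 2
    have hx2 : pp π (x ^ 2) = 1 := by rw [map_pow, hx, pow_two]; exact r_sq (le_refl 2)
    rw [comm_one_of_map_one_left (pp π) hK hx2] at e
    rw [hε]; exact e.symm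
  -- step 1: the quotient by `ε` and the squares
  let M₀ : Subgroup Γ := Subgroup.closure ({ε} ∪ {w | ∃ z ∈ π.ker, w = z * z})
  have hM₀ : M₀ ≤ π.ker := by
    rw [Subgroup.closure_le]
    rintro w (hw | ⟨z, hz, rfl⟩)
    · rw [Set.mem_singleton_iff] at hw; rw [hw]; exact hεK
    · exact Subgroup.mul_mem _ hz hz
  have hN₀ : M₀.Normal := normal_of_le_center (hM₀.trans hc)
  have hstep1 : π.ker ≤ M₀ := by
    apply ker_le_of_qmap_split π M₀ hM₀ hd
    apply even_split (π := qmap π M₀ hM₀) (qmap_surjective π M₀ hM₀ hπ)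
      (qmap_ker_le_center π M₀ hM₀ hc) _ hm3 (x := QuotientGroup.mk x) (c := QuotientGroup.mk c)
    · rw [pp_apply, qmap_mk, ← pp_apply, hx]
    · rw [pp_apply, qmap_mk, ← pp_apply, hcp]
    · rw [← commutatorElement_eq_one_iff_commute, ← QuotientGroup.mk_inv,
        ← QuotientGroup.mk_mul, ← QuotientGroup.mk_mul]
      have : ⁅(QuotientGroup.mk x : Γ ⧸ M₀), (QuotientGroup.mk (c * x * c⁻¹) : Γ ⧸ M₀)⁆ =
          QuotientGroup.mk ⁅x, c * x * c⁻¹⁆ := by
        simp [commutatorElement_def]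
      rw [this, QuotientGroup.eq_one_iff, ← hε]
      exact Subgroup.subset_closure (Or.inl rfl)
    · intro ξ hξ
      obtain ⟨z, hz, rfl⟩ := mem_qmap_ker π M₀ hM₀ hξ
      rw [← QuotientGroup.mk_mul, QuotientGroup.eq_one_iff]
      exact Subgroup.subset_closure (Or.inr ⟨z, hz, rfl⟩)
  -- step 2: the quotient by `ε`
  let N : Subgroup Γ := Subgroup.zpowers ε
  have hN : N ≤ π.ker := by
    rw [Subgroup.zpowers_le]; exact hεK
  have hNn : N.Normal := normal_of_le_center (hN.trans hc)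
  have hcen := qmap_ker_le_center π N hN hc
  have hsq : ∀ ξ ∈ (qmap π N hN).ker, ∃ ζ ∈ (qmap π N hN).ker, ζ * ζ = ξ := by
    intro ξ hξ
    obtain ⟨z, hz, rfl⟩ := mem_qmap_ker π N hN hξ
    have hz' : z ∈ M₀ := hstep1 hz
    induction hz' using Subgroup.closure_induction with
    | mem w hw =>
      rcases hw with hw | ⟨z', hz', rfl⟩
      · rw [Set.mem_singleton_iff] at hw
        refine ⟨1, Subgroup.one_mem _, ?_⟩
        rw [one_mul, eq_comm, QuotientGroup.eq_one_iff, hw]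
        exact Subgroup.mem_zpowers ε
      · refine ⟨QuotientGroup.mk z', ?_, rfl⟩
        rw [MonoidHom.mem_ker, qmap_mk]; exact hz'
    | one => exact ⟨1, Subgroup.one_mem _, by simp⟩
    | mul a b ha hb iha ihb =>
      obtain ⟨ζ₁, h1, e1⟩ := iha (hM₀ ha) (by rw [MonoidHom.mem_ker, qmap_mk]; exact hM₀ ha)
      obtain ⟨ζ₂, h2, e2⟩ := ihb (hM₀ hb) (by rw [MonoidHom.mem_ker, qmap_mk]; exact hM₀ hb)
      refine ⟨ζ₁ * ζ₂, Subgroup.mul_mem _ h1 h2, ?_⟩
      have hcm := Subgroup.mem_center_iff.1 (hcen h1) ζ₂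
      rw [QuotientGroup.mk_mul, ← e1, ← e2]
      calc ζ₁ * ζ₂ * (ζ₁ * ζ₂) = ζ₁ * (ζ₂ * ζ₁) * ζ₂ := by group
        _ = ζ₁ * (ζ₁ * ζ₂) * ζ₂ := by rw [hcm]
        _ = ζ₁ * ζ₁ * (ζ₂ * ζ₂) := by group
    | inv a ha iha =>
      obtain ⟨ζ₁, h1, e1⟩ := iha (hM₀ ha) (by rw [MonoidHom.mem_ker, qmap_mk]; exact hM₀ ha)
      refine ⟨ζ₁⁻¹, Subgroup.inv_mem _ h1, ?_⟩
      rw [QuotientGroup.mk_inv, ← e1, mul_inv_rev]
  have hstep2 : π.ker ≤ N := by
    rcases hm with hm | hm | hm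
    · intro z hz
      have h4 : ∀ ξ ∈ (qmap π N hN).ker, ξ ^ 4 = 1 := by
        intro ξ hξ
        obtain ⟨z', hz', rfl⟩ := mem_qmap_ker π N hN hξ
        rw [← QuotientGroup.mk_pow, pow_four_eq_one_of_small (Or.inl hm) π hπ hc hd hz']
        rfl
      have hz1 : (QuotientGroup.mk z : Γ ⧸ N) ∈ (qmap π N hN).ker := by
        rw [MonoidHom.mem_ker, qmap_mk]; exact hz
      obtain ⟨ζ, hζ, e1⟩ := hsq _ hz1
      obtain ⟨θ, hθ, e2⟩ := hsq _ hζ
      have : (QuotientGroup.mk z : Γ ⧸ N) = θ ^ 4 := by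
        rw [← e1, ← e2]; simp [pow_succ, mul_assoc]
      rw [h4 θ hθ, QuotientGroup.eq_one_iff] at this
      exact this
    · intro z hz
      have h4 : ∀ ξ ∈ (qmap π N hN).ker, ξ ^ 4 = 1 := by
        intro ξ hξ
        obtain ⟨z', hz', rfl⟩ := mem_qmap_ker π N hN hξ
        rw [← QuotientGroup.mk_pow, pow_four_eq_one_of_small (Or.inr hm) π hπ hc hd hz']
        rfl
      have hz1 : (QuotientGroup.mk z : Γ ⧸ N) ∈ (qmap π N hN).ker := by
        rw [MonoidHom.mem_ker, qmap_mk]; exact hz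
      obtain ⟨ζ, hζ, e1⟩ := hsq _ hz1
      obtain ⟨θ, hθ, e2⟩ := hsq _ hζ
      have : (QuotientGroup.mk z : Γ ⧸ N) = θ ^ 4 := by
        rw [← e1, ← e2]; simp [pow_succ, mul_assoc]
      rw [h4 θ hθ, QuotientGroup.eq_one_iff] at this
      exact this
    · apply ker_le_of_qmap_split π N hN hd
      have hinj : Function.Injective
          (fun ξ : (qmap π N hN).ker => (⟨(ξ : Γ ⧸ N) * ξ, Subgroup.mul_mem _ ξ.2 ξ.2⟩ :
            (qmap π N hN).ker)) := by
        apply Finite.injective_iff_surjective.2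
        rintro ⟨ξ, hξ⟩
        obtain ⟨ζ, hζ, e⟩ := hsq ξ hξ
        exact ⟨⟨ζ, hζ⟩, Subtype.ext e⟩
      have h1 : ∀ ξ ∈ (qmap π N hN).ker, ξ * ξ = 1 → ξ = 1 := by
        intro ξ hξ h
        have := @hinj ⟨ξ, hξ⟩ 1 (Subtype.ext (by simpa using h))
        exact congrArg Subtype.val this
      exact odd_split (π := qmap π N hN) (qmap_surjective π N hN hπ) hcen h1 hsq hm
  calc Nat.card π.ker ≤ Nat.card N := Subgroup.card_le_of_le hstep2
    _ = orderOf ε := Nat.card_zpowers ε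
    _ ≤ 2 := orderOf_le_of_pow_eq_one (by norm_num) hε2

end Cfsg.Agent.Lib.Helper35.AltM
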